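import Mathlib
import Cfsg.Agent.Lib.Helper19.S5954.Defs

set_option autoImplicit false

/-!
# Project S5954, part NS (`r` odd, `r ∣ q + 1`; sub-designer helper4): definitions.

`NSCtx r σ B x z`: `x` is an isometry of the nondegenerate hermitian space `(V, B)` with `x ^ r = z • 1`.
If `z ^ k = 1` this is an `HCtx (r * k) σ B x` (`ns_hctx`), so the landed part-U rows `h_peel`, `h_sup_nd` apply.
-/

namespace Cfsg.Agent.Lib.Helper19.S5954

open Polynomial Module Cfsg.Agent.Lib.Helper13.S5955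

variable {F : Type*} [Field F] {V : Type*} [AddCommGroup V] [Module F V]

/-- `x` is an isometry of the nondegenerate hermitian space `(V, B)` with `x ^ r = z • 1`. -/
structure NSCtx (r : ℕ) (σ : F →+* F) (B : V →ₛₗ[σ] V →ₗ[F] F) (x : Module.End F V) (z : F) : Prop where
  inv : ∀ a, σ (σ a) = a
  ne : ∃ a, σ a ≠ a
  symm : ∀ u v, σ (B u v) = B v u
  nd : ∀ u, (∀ v, B u v = 0) → u = 0
  pres : ∀ u v, B (x u) (x v) = B u v
  pow : x ^ r = z • 1

/-- if `z ^ k = 1` an `NSCtx` is an `HCtx` for the exponent `r * k`. -/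
theorem ns_hctx {r : ℕ} {σ : F →+* F} {B : V →ₛₗ[σ] V →ₗ[F] F} {x : Module.End F V} {z : F}
    (h : NSCtx r σ B x z) (k : ℕ) (hz : z ^ k = 1) : HCtx (r * k) σ B x :=
  ⟨h.inv, h.ne, h.symm, h.nd, h.pres, by rw [pow_mul, h.pow, _root_.smul_pow, one_pow, hz, one_smul]⟩

/-- an `HCtx` is an `NSCtx` with `z = 1`. -/
theorem ns_of_hctx {r : ℕ} {σ : F →+* F} {B : V →ₛₗ[σ] V →ₗ[F] F} {x : Module.End F V}
    (h : HCtx r σ B x) : NSCtx r σ B x 1 :=
  ⟨h.inv, h.ne, h.symm, h.nd, h.pres, by rw [h.pow, one_smul]⟩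

/-- isometries preserve the form under powers. -/
theorem ns_pres_pow {σ : F →+* F} {B : V →ₛₗ[σ] V →ₗ[F] F} {x : Module.End F V}
    (hpres : ∀ u v, B (x u) (x v) = B u v) (k : ℕ) (u v : V) : B ((x ^ k) u) ((x ^ k) v) = B u v := by
  induction k with
  | zero => rfl
  | succ k ih =>
    rw [pow_succ', Module.End.mul_apply, Module.End.mul_apply, hpres, ih]

end Cfsg.Agent.Lib.Helper19.S5954
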